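import Mathlib.Algebra.Homology.DerivedCategory.Ext.ExactSequences
import Mathlib.CategoryTheory.Abelian.Basic

/-!
# Vanishing of Ext groups of finite direct sums, and of a two-term resolution
-/

set_option autoImplicit false
universe w v u

open CategoryTheory CategoryTheory.Limits

namespace K159.ExtAdd

variable {C : Type u} [Category.{v} C] [Abelian C] [HasExt.{w} C]

open Abelian

attribute [local instance] HasFiniteBiproducts.of_hasFiniteProducts

/-- `Ext^n(X, A) = 0` for `A` a finite coproduct of objects `Y j` with `Ext^n(X, Y j) = 0`. -/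
theorem subsingleton_right {J : Type} [Finite J] (X A : C) (Y : J → C) (e : A ≅ ∐ Y) (n : ℕ)
    (h : ∀ j, Subsingleton (Ext X (Y j) n)) : Subsingleton (Ext X A n) := by
  have := Fintype.ofFinite J
  have e2 : A ≅ (biproduct.bicone Y).pt := e ≪≫ (biproduct.isoCoproduct Y).symm
  have h1 : Subsingleton (Ext X (biproduct.bicone Y).pt n) :=
    (Ext.addEquivBiproduct X (biproduct.isBilimit Y) n).toEquiv.subsingleton
  refine ⟨fun a b ↦ ?_⟩
  have h2 : ∀ x : Ext X A n, x = (x.comp (Ext.mk₀ e2.hom) (add_zero n)).comp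
      (Ext.mk₀ e2.inv) (add_zero n) := fun x ↦ by
    rw [Ext.comp_assoc_of_second_deg_zero, Ext.mk₀_comp_mk₀, Iso.hom_inv_id, Ext.comp_mk₀_id]
  rw [h2 a, h2 b, Subsingleton.elim (a.comp (Ext.mk₀ e2.hom) (add_zero n))
    (b.comp (Ext.mk₀ e2.hom) (add_zero n))]

/-- `Ext^n(A, X) = 0` for `A` a finite coproduct of objects `Y j` with `Ext^n(Y j, X) = 0`. -/
theorem subsingleton_left {J : Type} [Finite J] (X A : C) (Y : J → C) (e : A ≅ ∐ Y) (n : ℕ)
    (h : ∀ j, Subsingleton (Ext (Y j) X n)) : Subsingleton (Ext A X n) := by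
  have := Fintype.ofFinite J
  have e2 : A ≅ (biproduct.bicone Y).pt := e ≪≫ (biproduct.isoCoproduct Y).symm
  have h1 : Subsingleton (Ext (biproduct.bicone Y).pt X n) :=
    (Ext.biproductAddEquiv (biproduct.isBilimit Y) X n).toEquiv.subsingleton
  refine ⟨fun a b ↦ ?_⟩
  have h2 : ∀ x : Ext A X n, x = (Ext.mk₀ e2.hom).comp ((Ext.mk₀ e2.inv).comp x (zero_add n))
      (zero_add n) := fun x ↦ by
    rw [Ext.mk₀_comp_mk₀_assoc, Iso.hom_inv_id, Ext.mk₀_id_comp]
  rw [h2 a, h2 b, Subsingleton.elim ((Ext.mk₀ e2.inv).comp a (zero_add n))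
    ((Ext.mk₀ e2.inv).comp b (zero_add n))]

variable {S : ShortComplex C} (hS : S.ShortExact)
include hS

theorem subsingleton_three (X : C) (p : ℕ) (h2 : Subsingleton (Ext X S.X₂ p))
    (h1 : Subsingleton (Ext X S.X₁ (p + 1))) : Subsingleton (Ext X S.X₃ p) := by
  refine ⟨fun a b ↦ ?_⟩
  have h : ∀ x : Ext X S.X₃ p, x = 0 := fun x ↦ by
    obtain ⟨y, hy⟩ := Ext.covariant_sequence_exact₃ X hS x rfl (Subsingleton.elim _ _)
    rw [← hy, Subsingleton.elim y 0, Ext.zero_comp]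
  rw [h a, h b]

theorem subsingleton_three_left (Y : C) (p q : ℕ) (hpq : 1 + q = p)
    (h2 : Subsingleton (Ext S.X₂ Y p))
    (h1 : Subsingleton (Ext S.X₁ Y q)) : Subsingleton (Ext S.X₃ Y p) := by
  refine ⟨fun a b ↦ ?_⟩
  have h : ∀ x : Ext S.X₃ Y p, x = 0 := fun x ↦ by
    obtain ⟨y, hy⟩ := Ext.contravariant_sequence_exact₃ hS Y x (Subsingleton.elim _ _) hpq
    rw [← hy, Subsingleton.elim y 0, Ext.comp_zero]
  rw [h a, h b]

theorem subsingleton_three_left_zero (Y : C)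
    (h2 : Subsingleton (Ext S.X₂ Y 0)) : Subsingleton (Ext S.X₃ Y 0) := by
  have := hS.epi_g
  refine ⟨fun a b ↦ ?_⟩
  exact Ext.precomp_mk₀_injective_of_epi Y S.g (Subsingleton.elim _ _)

end K159.ExtAdd
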