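import Groth.Agent.SDiv.K474.FittLoc
import Groth.Agent.PerfA.QCohSerre
import Groth.Agent.S2304
import Groth.Agent.Ega1.QCohSpec
import Groth.Agent.CohqB.FiniteType2

/-!
# A lower bound for the number of generators of a cokernel of locally free modules

`rank_le`: `ψ : A ⟶ B` with `A`, `B` locally free of ranks `a`, `b`; if `C ⟶ cokernel ψ` is an epimorphism and
`x ∉ V(Fit_r C)`, then `b ≤ r + a`.
-/

set_option autoImplicit false
universe w u

open CategoryTheory CategoryTheory.Limits AlgebraicGeometry TopologicalSpace Opposite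

namespace K159.FittBound

open Groth.Agent Groth.Agent.Ega2.BasSec Groth.Agent.Fdesc.LocGen Groth.Agent.SDiv.K474.FittLoc

/-- the algebra -/
theorem alg_rank_le {R : Type*} [CommRing R] [Nontrivial R] {A B C : Type*} [AddCommGroup A]
    [Module R A] [AddCommGroup B] [Module R B] [AddCommGroup C] [Module R C]
    (f : A →ₗ[R] B) (π : B →ₗ[R] C) (hπ : Function.Surjective π)
    (hex : ∀ y, π y = 0 → ∃ x, f x = y) {a b r : ℕ} (sA : Fin a → A)
    (hA : Submodule.span R (Set.range sA) = ⊤) (bB : Module.Basis (Fin b) R B) (sC : Fin r → C)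
    (hC : Submodule.span R (Set.range sC) = ⊤) : b ≤ r + a := by
  choose y hy using fun i ↦ hπ (sC i)
  have h : Submodule.span R (Set.range (Sum.elim y (f ∘ sA))) = ⊤ := by
    rw [Submodule.eq_top_iff']
    intro z
    have h1 : π z ∈ Submodule.span R (Set.range sC) := by rw [hC]; trivial
    obtain ⟨c, hc⟩ := (Submodule.mem_span_range_iff_exists_fun R).1 h1
    obtain ⟨x, hx⟩ := hex (z - ∑ i, c i • y i) (by simp [hy, hc])
    have h2 : x ∈ Submodule.span R (Set.range sA) := by rw [hA]; trivial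
    obtain ⟨d, hd⟩ := (Submodule.mem_span_range_iff_exists_fun R).1 h2
    rw [Submodule.mem_span_range_iff_exists_fun]
    refine ⟨Sum.elim c d, ?_⟩
    have h3 : z = (∑ i, c i • y i) + f x := by rw [hx]; abel
    rw [h3, ← hd]
    simp
  have h1 := finrank_le_of_span_eq_top h
  rw [Module.finrank_eq_card_basis bB] at h1
  simpa using h1

variable {X : Scheme.{u}}

/-- sections of a cokernel over an affine open -/
theorem exists_preimage {A B : X.Modules} (ψ : A ⟶ B) (hA : Coh.IsQCoh A) (hB : Coh.IsQCoh B)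
    {V : X.Opens} (hV : IsAffineOpen V) (y : Γ(B, V)) (hy : (cokernel.π ψ).app V y = 0) :
    ∃ x : Γ(A, V), ψ.app V x = y := by
  have hK : Coh.IsQCoh (kernel (cokernel.π ψ)) :=
    PerfA.QCohSerre.isQCoh_kernel _ hB (Groth.Agent.S2304.isQCoh_cokernel ψ hA hB)
  have h1 : A.IsQuasicoherent := hA
  have h2 : (kernel (cokernel.π ψ)).IsQuasicoherent := hK
  let q : A ⟶ kernel (cokernel.π ψ) := Abelian.factorThruImage ψ
  have hq : Epi q := inferInstanceAs (Epi (Abelian.factorThruImage ψ))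
  obtain ⟨t, ht⟩ := Ega1.QCohSpec.exact_app
    (S := ShortComplex.mk (kernel.ι (cokernel.π ψ)) (cokernel.π ψ) (kernel.condition _))
    (ShortComplex.exact_kernel _) V y hy
  obtain ⟨x, hx⟩ := FormalB.QcSect.surjective_app_of_epi q hV t
  refine ⟨x, ?_⟩
  have h3 : ψ = q ≫ kernel.ι (cokernel.π ψ) := (Abelian.image.fac ψ).symm
  rw [h3, ← ht, ← hx]
  simp

theorem rank_le {a b r : ℕ} {A B C : X.Modules} (hA : FlatMod.IsFinLocFreeOfRank a A)
    (hB : FlatMod.IsFinLocFreeOfRank b B) (ψ : A ⟶ B) (hA' : Coh.IsQCoh A) (hB' : Coh.IsQCoh B)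
    (hC : Coh.IsQCoh C) (hCft : CohB1.IsFT C) (p : C ⟶ cokernel ψ) [Epi p] (x : X)
    (hx : x ∉ (Fitt.sheafIdeal C r).support) : b ≤ r + a := by
  obtain ⟨U₁, e₁, hx₁, he₁⟩ := (isFinLocFreeOfRank_iff A a).1 hA x
  obtain ⟨U₂, e₂, hx₂, he₂⟩ := (isFinLocFreeOfRank_iff B b).1 hB x
  obtain ⟨V, hV, e, hxV, hVU, he⟩ := exists_span_of_not_mem_support C hC hCft r x hx (U₁ ⊓ U₂)
    ⟨hx₁, hx₂⟩
  have : Nontrivial Γ(X, V) := by
    have : Nonempty V := ⟨⟨x, hxV⟩⟩
    infer_instance
  have hq : Coh.IsQCoh (cokernel ψ) := Groth.Agent.S2304.isQCoh_cokernel ψ hA' hB'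
  have h1 : C.IsQuasicoherent := hC
  have h2 : (cokernel ψ).IsQuasicoherent := hq
  have h3 : B.IsQuasicoherent := hB'
  have hp := FormalB.QcSect.surjective_app_of_epi p hV
  have hπ := FormalB.QcSect.surjective_app_of_epi (cokernel.π ψ) hV
  obtain ⟨bB, -⟩ := (comb_bijective_iff _).1 (he₂.res (hVU.trans inf_le_right)).bijective
  have hsA := (surjective_comb_iff _).1 (he₁.res (hVU.trans inf_le_left)).bijective.2
  refine alg_rank_le (CohqB.FiniteType2.appLinear ψ V) (CohqB.FiniteType2.appLinear (cokernel.π ψ) V)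
    hπ (fun y hy ↦ exists_preimage ψ hA' hB' hV y hy) _ hsA bB (fun i ↦ p.app V (e i)) ?_
  rw [Submodule.eq_top_iff']
  intro z
  obtain ⟨y, rfl⟩ := hp z
  have h4 : y ∈ Submodule.span Γ(X, V) (Set.range e) := by rw [he]; trivial
  have h5 := Submodule.mem_map_of_mem (f := CohqB.FiniteType2.appLinear p V) h4
  rw [Submodule.map_span, ← Set.range_comp] at h5
  exact h5

end K159.FittBound
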